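import Groth.Agent.Ega43.FibSch2

/-!
# Invariant properties of the stalks of the restriction of a module to a fibre

`Inv Q`: the property `Q R M` of a module over a local ring is invariant under additive isomorphisms which are
semilinear over a surjection of local rings. For such a property:

* `stalk_fiber`, `stalk_asFiber`: in terms of `F_x / 𝔪_{f x} F_x` over `O_{X,x}`;
* `fiber_iff_asFiber`: independence of the way the fibre is written;
* `iff_fibLoc`: in terms of `FibLocRing`, `FibLocMod` on affine charts.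
-/

set_option autoImplicit false
universe u v w

open CategoryTheory CategoryTheory.Limits AlgebraicGeometry TopologicalSpace
open IsLocalRing

namespace K128.FibInv

open Groth.Agent Groth.Agent.Ega43.FibSch2

/-- A property of modules over local rings. -/
abbrev Prp : Type (u + 1) := ∀ (R M : Type u) [CommRing R] [IsLocalRing R] [AddCommGroup M] [Module R M], Prop

/-- Invariance under semilinear isomorphisms over surjections of local rings. -/
def Inv (Q : Prp.{u}) : Prop :=
  ∀ (R R' M M' : Type u) [CommRing R] [IsLocalRing R] [CommRing R'] [IsLocalRing R'] [AddCommGroup M]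
    [Module R M] [AddCommGroup M'] [Module R' M'] (σ : R →+* R') (_ : Function.Surjective σ)
    (e : M ≃+ M') (_ : ∀ (r : R) (m : M), e (r • m) = σ r • e m), Q R M ↔ Q R' M'

section Algebra

variable {Q : Prp.{u}} (hQ : Inv Q) {A B : Type u} [CommRing A] [CommRing B] [Algebra A B]

include hQ in
/-- The pair `(FibLocRing, FibLocMod)` in terms of arbitrary models of the localizations. -/
theorem fibLoc_iff (q : Ideal B) [q.IsPrime] (M : Type u) [AddCommGroup M] [Module B M]
    {𝓐 𝓑 N : Type u} [CommRing 𝓐] [IsLocalRing 𝓐] [Algebra A 𝓐]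
    [IsLocalization.AtPrime 𝓐 (q.comap (algebraMap A B))]
    [CommRing 𝓑] [IsLocalRing 𝓑] [Algebra B 𝓑] [IsLocalization.AtPrime 𝓑 q] [Algebra 𝓐 𝓑]
    (hcomm : (algebraMap 𝓐 𝓑).comp (algebraMap A 𝓐) = (algebraMap B 𝓑).comp (algebraMap A B))
    [AddCommGroup N] [Module B N] [Module 𝓑 N] [IsScalarTower B 𝓑 N]
    (l : M →ₗ[B] N) [IsLocalizedModule q.primeCompl l] :
    have := Ega4C.SkFlat.isLocalRing_fibLocRing (B := A) q
    Q (EGA4.FibLocRing A B q) (EGA4.FibLocMod A B q M) ↔
      Q 𝓑 (N ⧸ ((maximalIdeal 𝓐).map (algebraMap 𝓐 𝓑) • ⊤ : Submodule 𝓑 N)) := by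
  have := Ega4C.SkFlat.isLocalRing_fibLocRing (B := A) q
  have h1 : Q (Localization.AtPrime q) (EGA4.FibLocMod A B q M) ↔
      Q (EGA4.FibLocRing A B q) (EGA4.FibLocMod A B q M) :=
    hQ _ _ _ _ (Ideal.Quotient.mk _) Ideal.Quotient.mk_surjective (AddEquiv.refl _)
      (fun r m => rfl)
  refine h1.symm.trans ?_
  let σ : Localization.AtPrime q ≃ₐ[B] 𝓑 := IsLocalization.algEquiv q.primeCompl _ _
  let : Module (Localization.AtPrime q) N := Module.compHom N (σ : Localization.AtPrime q →+* 𝓑)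
  have : IsScalarTower B (Localization.AtPrime q) N := IsScalarTower.of_algebraMap_smul (fun r m => by
    change σ (algebraMap B (Localization.AtPrime q) r) • m = r • m
    rw [σ.commutes, algebraMap_smul])
  let e₀ : LocalizedModule q.primeCompl M ≃ₗ[B] N := IsLocalizedModule.iso q.primeCompl l
  let e₁ : LocalizedModule q.primeCompl M ≃ₗ[Localization.AtPrime q] N :=
    e₀.extendScalarsOfIsLocalization q.primeCompl (Localization.AtPrime q)
  obtain ⟨e', he'⟩ := exists_quot_semilinear σ.toRingEquiv e₁.toAddEquiv (fun r n => e₁.map_smul r n)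
    ((q.comap (algebraMap A B)).map (algebraMap A (Localization.AtPrime q)))
    ((maximalIdeal 𝓐).map (algebraMap 𝓐 𝓑)) (by
      rw [← IsLocalization.AtPrime.map_eq_maximalIdeal (q.comap (algebraMap A B)) 𝓐,
        Ideal.map_map, Ideal.map_map, hcomm]
      congr 1
      ext a
      change σ (algebraMap A (Localization.AtPrime q) a) = algebraMap B 𝓑 (algebraMap A B a)
      rw [IsScalarTower.algebraMap_apply A B (Localization.AtPrime q), σ.commutes])
  exact hQ _ _ _ _ (σ : Localization.AtPrime q →+* 𝓑) σ.surjective e' he'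

end Algebra

section Scheme

variable {X S : Scheme.{u}} {Q : Prp.{u}} (hQ : Inv Q)

open Groth.Agent.Ega4dB.FiberDepth

include hQ in
theorem stalk_fiber (f : X ⟶ S) (F : X.Modules) (s : S) (z : f.fiber s) :
    Q ((f.fiber s).presheaf.stalk z)
      (((Scheme.Modules.pullback (f.fiberι s)).obj F).presheaf.stalk z) ↔
    Q (X.presheaf.stalk (f.fiberι s z))
      (F.presheaf.stalk (f.fiberι s z) ⧸
        (mIdeal f (f.fiberι s z) • (⊤ : Submodule (X.presheaf.stalk (f.fiberι s z))
          (F.presheaf.stalk (f.fiberι s z))))) := by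
  let := Groth.Agent.Fdesc.PullbackStalk.stalkAlg (f.fiberι s) z
  let := FlatMod.moduleStalkOver (f.fiberι s) ((Scheme.Modules.pullback (f.fiberι s)).obj F) z
  have := Groth.Agent.Fdesc.PullbackStalk.isScalarTower (f.fiberι s)
    ((Scheme.Modules.pullback (f.fiberι s)).obj F) z
  have hbc := Groth.Agent.Fdesc.PullbackStalk.isBaseChange_can (f.fiberι s) F z
  have hsurj : Function.Surjective
      (algebraMap (X.presheaf.stalk (f.fiberι s z)) ((f.fiber s).presheaf.stalk z)) :=
    CycB.FiberKer.stalkMap_fiberι_surjective f s z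
  obtain ⟨h1, h2⟩ := exists_equiv_of_isBaseChange hsurj hbc
  have h3 : RingHom.ker (algebraMap (X.presheaf.stalk (f.fiberι s z)) ((f.fiber s).presheaf.stalk z)) =
      mIdeal f (f.fiberι s z) := CycB.FiberKer.ker_stalkMap_fiberι f s z
  rw [h3] at h2
  let e := (Submodule.quotEquivOfEq _ _ h2.symm).trans
    (LinearMap.quotKerEquivOfSurjective _ h1)
  refine (hQ _ _ _ _ (algebraMap (X.presheaf.stalk (f.fiberι s z))
    ((f.fiber s).presheaf.stalk z)) hsurj e.toAddEquiv ?_).symm
  intro r n
  change e (r • n) = _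
  rw [e.map_smul]
  exact (algebraMap_smul ((f.fiber s).presheaf.stalk z) r (e n)).symm

include hQ in
theorem stalk_asFiber (f : X ⟶ S) (F : X.Modules) (x : X) :
    Q ((f.fiber (f x)).presheaf.stalk (f.asFiber x))
      (((Scheme.Modules.pullback (f.fiberι (f x))).obj F).presheaf.stalk (f.asFiber x)) ↔
    Q (X.presheaf.stalk x)
      (F.presheaf.stalk x ⧸ (mIdeal f x • (⊤ : Submodule (X.presheaf.stalk x)
          (F.presheaf.stalk x)))) := by
  have h := stalk_fiber hQ f F (f x) (f.asFiber x)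
  rw [f.fiberι_asFiber] at h
  exact h

include hQ in
/-- The condition at a point of a fibre only depends on the image point in `X`. -/
theorem fiber_iff_asFiber (f : X ⟶ S) (F : X.Modules) (s : S) (z : f.fiber s) :
    Q ((f.fiber s).presheaf.stalk z)
      (((Scheme.Modules.pullback (f.fiberι s)).obj F).presheaf.stalk z) ↔
    Q ((f.fiber (f (f.fiberι s z))).presheaf.stalk (f.asFiber (f.fiberι s z)))
      (((Scheme.Modules.pullback (f.fiberι (f (f.fiberι s z)))).obj F).presheaf.stalk
        (f.asFiber (f.fiberι s z))) :=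
  (stalk_fiber hQ f F s z).trans (stalk_asFiber hQ f F (f.fiberι s z)).symm

open Groth.Agent.Fdesc.QCohStalk

variable (f : X ⟶ S) (F : X.Modules)

include hQ in
/-- The fibre stalk condition in terms of sections. -/
theorem iff_fibLoc (hF : Coh.IsQCoh F) {V : S.Opens} (hV : IsAffineOpen V)
    {U : X.Opens} (hU : IsAffineOpen U) (h : U ≤ f ⁻¹ᵁ V) (x : X) (hx : x ∈ U)
    [i1 : Algebra Γ(S, V) Γ(X, U)] (hi1 : algebraMap Γ(S, V) Γ(X, U) = (f.appLE V U h).hom) :
    have := Ega4C.SkFlat.isLocalRing_fibLocRing (B := Γ(S, V)) (hU.primeIdealOf ⟨x, hx⟩).asIdeal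
    Q (X.presheaf.stalk x)
      (F.presheaf.stalk x ⧸ (mIdeal f x • (⊤ : Submodule (X.presheaf.stalk x)
          (F.presheaf.stalk x)))) ↔
    Q (EGA4.FibLocRing Γ(S, V) Γ(X, U) (hU.primeIdealOf ⟨x, hx⟩).asIdeal)
      (EGA4.FibLocMod Γ(S, V) Γ(X, U) (hU.primeIdealOf ⟨x, hx⟩).asIdeal Γ(F, U)) := by
  let i3 : Module Γ(X, U) (F.presheaf.stalk x) := stalkModule F x hx
  let i6 : Algebra Γ(S, V) (S.presheaf.stalk (f x)) :=
    (S.presheaf.germ V (f x) (h hx)).hom.toAlgebra
  let i7 : Algebra Γ(X, U) (X.presheaf.stalk x) := (X.presheaf.germ U x hx).hom.toAlgebra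
  let i8 : Algebra (S.presheaf.stalk (f x)) (X.presheaf.stalk x) := (f.stalkMap x).hom.toAlgebra
  have h2 : ∀ a : Γ(S, V), (f.stalkMap x) (S.presheaf.germ V (f x) (h hx) a) =
      X.presheaf.germ U x hx (algebraMap Γ(S, V) Γ(X, U) a) := fun a => by
    rw [hi1]
    exact congr($(Groth.Agent.Ega3B.FlatSec.germ_appLE f h x hx) a)
  have t3 : IsScalarTower Γ(X, U) (X.presheaf.stalk x) (F.presheaf.stalk x) :=
    IsScalarTower.of_algebraMap_smul (fun r m => rfl)
  have hq : (hU.primeIdealOf ⟨x, hx⟩).asIdeal.comap (algebraMap Γ(S, V) Γ(X, U)) =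
      (hV.primeIdealOf ⟨f x, h hx⟩).asIdeal := by
    rw [hi1]
    exact congr(($(IsAffineOpen.comap_primeIdealOf_appLE V hV U hU h hx)).asIdeal)
  have l1 : IsLocalization.AtPrime (S.presheaf.stalk (f x))
      ((hU.primeIdealOf ⟨x, hx⟩).asIdeal.comap (algebraMap Γ(S, V) Γ(X, U))) := by
    have := hV.isLocalization_stalk ⟨f x, h hx⟩
    simp only [hq]
    exact this
  have l2 : IsLocalization.AtPrime (X.presheaf.stalk x) (hU.primeIdealOf ⟨x, hx⟩).asIdeal :=
    hU.isLocalization_stalk ⟨x, hx⟩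
  have l3 := isLocalizedModule_germ F hU hF x hx
  refine (fibLoc_iff hQ (𝓐 := S.presheaf.stalk (f x))
    (𝓑 := X.presheaf.stalk x) (hU.primeIdealOf ⟨x, hx⟩).asIdeal Γ(F, U) ?_ (germₗ F x hx)).symm
  ext a
  exact h2 a

end Scheme

end K128.FibInv
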