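import Groth.Agent.Flat2C.FittingZero
import Groth.Agent.Fdesc.AssFlat2
import Groth.Agent.Models2.FPCoh
import Groth.Agent.EGA43.K128.FibInv
import Mathlib.RingTheory.Spectrum.Prime.Chevalley

/-!
# The support of a flat finitely presented module has open image

For `f : X ⟶ S` locally of finite presentation and `F` a finitely presented module flat over `S`, the image
under `f` of `W ∩ Supp F` is open for every open `W` of `X` (`isOpen_image`).
-/

set_option autoImplicit false
universe u

open CategoryTheory AlgebraicGeometry TopologicalSpace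

namespace K128.SuppOpen

section Algebra

open Groth.Agent.Flat2C.FittingZero

variable {R : Type u} [CommRing R] (M : Type u) [AddCommGroup M] [Module R M]

/-- The support of a finite module is the zero locus of its zeroth Fitting ideal. -/
theorem support_eq_zeroLocus [Module.Finite R M] :
    Module.support R M = PrimeSpectrum.zeroLocus (FlatCA.fittingZero R M : Set R) := by
  obtain ⟨n, x, hx⟩ := Module.Finite.exists_fin (R := R) (M := M)
  rw [fittingZero_eq_relDet x hx]
  apply le_antisymm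
  · rw [Module.support_eq_zeroLocus]
    apply PrimeSpectrum.zeroLocus_anti_mono
    rw [SetLike.coe_subset_coe]
    refine Ideal.span_le.mpr ?_
    rintro _ ⟨a, ha, rfl⟩
    rw [SetLike.mem_coe, Module.mem_annihilator]
    have h1 : ∀ j, a.det • x j = 0 := by
      intro j
      have h2 : ∑ i, a.adjugate j i • ∑ k, a i k • x k = 0 := by simp [ha]
      rw [← h2]
      simp_rw [Finset.smul_sum, smul_smul]
      rw [Finset.sum_comm]
      simp_rw [← Finset.sum_smul]
      have h3 : ∀ k, ∑ i, a.adjugate j i * a i k = (a.adjugate * a) j k := fun k => by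
        rw [Matrix.mul_apply]
      simp_rw [h3, Matrix.adjugate_mul, Matrix.smul_apply, Matrix.one_apply]
      simp
    intro m
    have hm : m ∈ Submodule.span R (Set.range x) := by rw [hx]; trivial
    obtain ⟨c, rfl⟩ := (Submodule.mem_span_range_iff_exists_fun R).mp hm
    rw [Finset.smul_sum]
    exact Finset.sum_eq_zero fun i _ => by rw [smul_comm, h1, smul_zero]
  · intro q hq
    by_contra hq'
    rw [Module.notMem_support_iff'] at hq'
    choose s hs hs' using fun i => hq' (x i)
    have h1 : (Matrix.diagonal s).det ∈ relDet (R := R) x := by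
      refine Ideal.subset_span ⟨Matrix.diagonal s, fun i => ?_, rfl⟩
      simp [Matrix.diagonal_apply, hs']
    have h2 := hq h1
    rw [Matrix.det_diagonal, SetLike.mem_coe, q.2.prod_mem_iff] at h2
    obtain ⟨i, -, hi⟩ := h2
    exact hs i hi

theorem isConstructible_support [Module.FinitePresentation R M] :
    Topology.IsConstructible (Module.support R M) := by
  rw [support_eq_zeroLocus]
  obtain ⟨t, ht⟩ := fittingZero_fg (R := R) (M := M)
  rw [← ht, PrimeSpectrum.zeroLocus_span]
  have h1 : PrimeSpectrum.zeroLocus (t : Set R) = ⋂ a ∈ t, (PrimeSpectrum.basicOpen a : Set _)ᶜ := by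
    ext q
    simp [PrimeSpectrum.mem_zeroLocus, Set.subset_def]
  rw [h1]
  exact Topology.IsConstructible.biInter t.finite_toSet fun a _ =>
    PrimeSpectrum.isConstructible_basicOpen.compl

end Algebra

section Scheme

open Groth.Agent Groth.Agent.Fdesc.QCohStalk

variable {X S : Scheme.{u}} (F : X.Modules)

theorem nontrivial_stalk_iff (hF : Coh.IsQCoh F) {U : X.Opens} (hU : IsAffineOpen U) (x : X) (hx : x ∈ U) :
    Nontrivial (F.presheaf.stalk x) ↔
      hU.primeIdealOf ⟨x, hx⟩ ∈ Module.support Γ(X, U) Γ(F, U) := by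
  let i3 : Module Γ(X, U) (F.presheaf.stalk x) := stalkModule F x hx
  have l3 := isLocalizedModule_germ F hU hF x hx
  rw [Module.mem_support_iff]
  exact (IsLocalizedModule.iso (hU.primeIdealOf ⟨x, hx⟩).asIdeal.primeCompl
    (germₗ F x hx)).toEquiv.symm.nontrivial_congr

variable (f : X ⟶ S) [LocallyOfFinitePresentation f] (hF : CohB1.IsFP F)
    (hflat : FlatMod.IsFlatOver f F)

include hF hflat in
/-- The image of the trace on an open of the support of a flat finitely presented module is open. -/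
theorem isOpen_image (W : Set X) (hW : IsOpen W) :
    IsOpen (f '' (W ∩ {x : X | Nontrivial (F.presheaf.stalk x)})) := by
  have hqc := PerfC.FPSections.isQCoh_of_isFP hF
  have hcoh : Coh.IsCoh F := Models2.FPCoh.isCoh_of_isFP hF
  rw [isOpen_iff_forall_mem_open]
  rintro _ ⟨x, ⟨hxW, hx⟩, rfl⟩
  obtain ⟨V, hV, hyV, -⟩ := exists_isAffineOpen_mem_and_subset (x := f x) (U := ⊤) trivial
  obtain ⟨U, hU, hxU, h⟩ := exists_isAffineOpen_mem_and_subset (x := x)
    (U := (⟨W, hW⟩ : X.Opens) ⊓ f ⁻¹ᵁ V) ⟨hxW, hyV⟩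
  have hUW : (U : Set X) ⊆ W := fun z hz => (h hz).1
  have hUV : U ≤ f ⁻¹ᵁ V := fun z hz => (h hz).2
  let i1 : Algebra Γ(S, V) Γ(X, U) := (f.appLE V U hUV).hom.toAlgebra
  have h1 : Algebra.FinitePresentation Γ(S, V) Γ(X, U) := f.finitePresentation_appLE hV hU hUV
  have h2 : Module.FinitePresentation Γ(X, U) Γ(F, U) :=
    Desc.FPSections.finitePresentation_sections hU hqc hF
  have hc : Topology.IsConstructible (PrimeSpectrum.comap (algebraMap Γ(S, V) Γ(X, U)) ''
      Module.support Γ(X, U) Γ(F, U)) :=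
    PrimeSpectrum.isConstructible_comap_image
      ((RingHom.finitePresentation_algebraMap (A := Γ(S, V)) (B := Γ(X, U))).mpr h1)
      (isConstructible_support Γ(F, U))
  have himg : f '' ((U : Set X) ∩ {x : X | Nontrivial (F.presheaf.stalk x)}) =
      hV.fromSpec '' (PrimeSpectrum.comap (algebraMap Γ(S, V) Γ(X, U)) ''
        Module.support Γ(X, U) Γ(F, U)) := by
    ext y
    constructor
    · rintro ⟨z, ⟨hzU, hz⟩, rfl⟩
      refine ⟨hV.primeIdealOf ⟨f z, hUV hzU⟩, ⟨hU.primeIdealOf ⟨z, hzU⟩, ?_, ?_⟩,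
        hV.fromSpec_primeIdealOf _⟩
      · exact (nontrivial_stalk_iff F hqc hU z hzU).mp hz
      · exact IsAffineOpen.comap_primeIdealOf_appLE V hV U hU hUV hzU
    · rintro ⟨_, ⟨q, hq, rfl⟩, rfl⟩
      obtain ⟨⟨z, hzU⟩, hz⟩ : ∃ z : U, hU.primeIdealOf z = q :=
        (Scheme.homeoOfIso hU.isoSpec).surjective q
      subst hz
      refine ⟨z, ⟨hzU, (nontrivial_stalk_iff F hqc hU z hzU).mpr hq⟩, ?_⟩
      have h3 : PrimeSpectrum.comap (algebraMap Γ(S, V) Γ(X, U)) (hU.primeIdealOf ⟨z, hzU⟩) =
          hV.primeIdealOf ⟨f z, hUV hzU⟩ :=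
        IsAffineOpen.comap_primeIdealOf_appLE V hV U hU hUV hzU
      rw [h3, hV.fromSpec_primeIdealOf]
  refine ⟨_, Set.image_mono (Set.inter_subset_inter_left _ hUW), ?_, ⟨x, ⟨hxU, hx⟩, rfl⟩⟩
  have hgen : StableUnderGeneralization
      (f '' ((U : Set X) ∩ {x : X | Nontrivial (F.presheaf.stalk x)})) := by
    rintro _ y' hy' ⟨z, ⟨hzU, hz⟩, rfl⟩
    obtain ⟨z', hz', rfl, hnt⟩ := Fdesc.AssFlat.exists_specializes_of_flat f F hcoh hflat z hz y' hy'
    exact ⟨z', ⟨hz'.mem_open U.2 hzU, hnt⟩, rfl⟩
  rw [himg] at hgen ⊢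
  refine hV.fromSpec.isOpenEmbedding.isOpenMap _
    (PrimeSpectrum.isOpen_of_stableUnderGeneralization_of_isConstructible ?_ hc)
  intro p p' hp hp'
  have h4 := hgen (hp.map hV.fromSpec.continuous) ⟨p, hp', rfl⟩
  obtain ⟨p'', hp'', he⟩ := h4
  rwa [hV.fromSpec.isOpenEmbedding.injective he] at hp''

end Scheme

end K128.SuppOpen
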