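import Groth.Agent.EGA43.K128.FibDim
import Groth.Agent.EGA43.K128.SuppOpen
import Groth.Agent.EGA43.K891.LenIneq
import Groth.Agent.CycB.GenPts
import Groth.Agent.FormalB.PullCoh

/-!
# Irreducible components of the support of the restriction of a module to a fibre

* `mem_irreducibleComponents_iff`: irreducible components of a closed subset of a sober space, in terms of its
  maximal points;
* `supp_fiber_iff`: the support of the restriction of `F` to a fibre is the trace of the support of `F`;
* `setOf_dim_mem_eq_image`: `n` is the dimension of an irreducible component of `Supp F_y` iff `y` is in the image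
  of the points `x` of `Supp F` such that all relative associated points specializing to `x` in the fibre have
  dimension `n`; hence (`isOpen_dim_mem`) this is an open condition on `y`.
-/

set_option autoImplicit false
universe u

open CategoryTheory CategoryTheory.Limits AlgebraicGeometry TopologicalSpace
open Groth.Agent Groth.Agent.CycB.RelDim

namespace K128.SuppComp

section Top

variable {X : Type*} [TopologicalSpace X] {T : Set X}

theorem closure_subset (hT : IsClosed T) {z : X} (hz : z ∈ T) : closure {z} ⊆ T :=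
  closure_minimal (Set.singleton_subset_iff.mpr hz) hT

theorem closure_coe (z : T) : closure ({z} : Set T) = Subtype.val ⁻¹' closure {(z : X)} := by
  rw [Topology.IsEmbedding.subtypeVal.closure_eq_preimage_closure_image, Set.image_singleton]

theorem mem_irreducibleComponents_iff [QuasiSober X] [T0Space X] (hT : IsClosed T) (Z : Set T) :
    Z ∈ irreducibleComponents T ↔
      ∃ z ∈ T, (∀ z' ∈ T, z' ⤳ z → z' = z) ∧ Z = Subtype.val ⁻¹' closure {z} := by
  have : QuasiSober T := hT.isClosedEmbedding_subtypeVal.quasiSober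
  constructor
  · intro hZ
    have hirr : IsIrreducible Z := hZ.1
    have hcl : IsClosed Z := isClosed_of_mem_irreducibleComponents Z hZ
    obtain ⟨⟨z, hz⟩, hgen⟩ := QuasiSober.sober hirr hcl
    refine ⟨z, hz, ?_, ?_⟩
    · intro z' hz' hsp
      have h1 : (⟨z', hz'⟩ : T) ⤳ ⟨z, hz⟩ := Topology.IsInducing.subtypeVal.specializes_iff.mp hsp
      have h2 : Z ⊆ closure {(⟨z', hz'⟩ : T)} := by
        rw [← hgen.def]
        exact closure_minimal (Set.singleton_subset_iff.mpr (specializes_iff_mem_closure.mp h1)) isClosed_closure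
      have h3 : closure {(⟨z', hz'⟩ : T)} ⊆ Z := hZ.2 isIrreducible_singleton.closure h2
      have h4 : (⟨z, hz⟩ : T) ⤳ ⟨z', hz'⟩ := by
        rw [specializes_iff_mem_closure, hgen.def]
        exact h3 (subset_closure rfl)
      exact congrArg Subtype.val (h1.antisymm h4).eq
    · rw [← hgen.def, closure_coe]
  · rintro ⟨z, hz, hmax, rfl⟩
    have h0 : (Subtype.val ⁻¹' closure {z} : Set T) = closure {(⟨z, hz⟩ : T)} :=
      (closure_coe (⟨z, hz⟩ : T)).symm
    rw [h0]
    refine ⟨isIrreducible_singleton.closure, ?_⟩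
    intro W hW hle
    have hW' : IsIrreducible (closure W) := hW.closure
    obtain ⟨⟨w, hw⟩, hgen⟩ := QuasiSober.sober hW' isClosed_closure
    have h1 : (⟨w, hw⟩ : T) ⤳ ⟨z, hz⟩ := by
      rw [specializes_iff_mem_closure, hgen.def]
      exact subset_closure (hle (subset_closure rfl))
    have h2 := hmax w hw (Topology.IsInducing.subtypeVal.specializes_iff.mpr h1)
    subst h2
    intro a ha
    have h3 := subset_closure ha
    rwa [← hgen.def] at h3

theorem dim_preimage_closure (hT : IsClosed T) {z : X} (hz : z ∈ T) :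
    topologicalKrullDim ↥(Subtype.val ⁻¹' closure {z} : Set T) = topologicalKrullDim ↥(closure {z}) := by
  let e : ↥(Subtype.val ⁻¹' closure {z} : Set T) ≃ₜ ↥(closure {z}) :=
    { toFun := fun a => ⟨a.1.1, a.2⟩
      invFun := fun a => ⟨⟨a.1, closure_subset hT hz a.2⟩, a.2⟩
      left_inv := fun a => rfl
      right_inv := fun a => rfl
      continuous_toFun := by fun_prop
      continuous_invFun := by fun_prop }
  exact IsHomeomorph.topologicalKrullDim_eq e e.isHomeomorph

end Top

section Mod

variable {X S : Scheme.{u}} (f : X ⟶ S) (F : X.Modules)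

/-- The support of the restriction to the fibre. -/
abbrev suppF (s : S) : Set (f.fiber s) :=
  {z | Nontrivial (((Scheme.Modules.pullback (f.fiberι s)).obj F).presheaf.stalk z)}

theorem inv_nontrivial : FibInv.Inv.{u} (fun _ M _ _ _ _ => Nontrivial M) :=
  fun _ _ _ _ _ _ _ _ _ _ _ _ _ _ e _ => e.toEquiv.nontrivial_congr

open Ega4dB.FiberDepth in
theorem nontrivial_quot_iff (hF : Coh.IsCoh F) (x : X) :
    Nontrivial (F.presheaf.stalk x ⧸ (mIdeal f x • (⊤ : Submodule (X.presheaf.stalk x)
          (F.presheaf.stalk x)))) ↔ Nontrivial (F.presheaf.stalk x) := by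
  have hfin := Groth.Agent.CycB.StalkLoc.finite_stalk F hF x
  constructor
  · intro h
    exact (Submodule.mkQ_surjective (mIdeal f x • (⊤ : Submodule (X.presheaf.stalk x)
          (F.presheaf.stalk x)))).nontrivial
  · intro h
    rw [Submodule.Quotient.nontrivial_iff]
    intro h1
    have h2 : mIdeal f x ≤ IsLocalRing.maximalIdeal (X.presheaf.stalk x) := by
      refine Ideal.map_le_iff_le_comap.mpr fun a ha => ?_
      rw [Ideal.mem_comap, IsLocalRing.mem_maximalIdeal, mem_nonunits_iff] at *
      exact fun h => ha (isUnit_of_map_unit (f.stalkMap x).hom a h)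
    have h3 := Submodule.eq_bot_of_le_smul_of_le_jacobson_bot (mIdeal f x)
      (⊤ : Submodule (X.presheaf.stalk x) (F.presheaf.stalk x)) Module.Finite.fg_top h1.ge
      (h2.trans (IsLocalRing.maximalIdeal_le_jacobson ⊥))
    exact top_ne_bot h3

theorem supp_fiber_iff (hF : Coh.IsCoh F) (s : S) (z : f.fiber s) :
    z ∈ suppF f F s ↔ Nontrivial (F.presheaf.stalk (f.fiberι s z)) :=
  (FibInv.stalk_fiber inv_nontrivial f F s z).trans (nontrivial_quot_iff f F hF _)

variable [LocallyOfFiniteType f]

theorem isLocallyNoetherian_fiber (s : S) : IsLocallyNoetherian (f.fiber s) := by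
  have hft : LocallyOfFiniteType (f.fiberToSpecResidueField s) :=
    (inferInstance : LocallyOfFiniteType (pullback.snd f (S.fromSpecResidueField s)))
  exact LocallyOfFiniteType.isLocallyNoetherian (f.fiberToSpecResidueField s)

theorem isClosed_suppF (hF : Coh.IsCoh F) (s : S) : IsClosed (suppF f F s) := by
  have := isLocallyNoetherian_fiber f s
  exact Groth.Agent.CycB.GenPts.isClosed_supp (M := (Scheme.Modules.pullback (f.fiberι s)).obj F)
    (FormalB.PullCoh.isCoh_pullback _ hF)

/-- Maximal points of the support of `F_s` are associated. -/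
theorem mem_ass_of_isMax (hF : Coh.IsCoh F) (s : S) (z : f.fiber s) (hz : z ∈ suppF f F s)
    (hmax : ∀ z' ∈ suppF f F s, z' ⤳ z → z' = z) :
    z ∈ AssSch.Ass ((Scheme.Modules.pullback (f.fiberι s)).obj F) := by
  have := isLocallyNoetherian_fiber f s
  have h := K891.LenIneq.mem_associatedPrimes (F := (Scheme.Modules.pullback (f.fiberι s)).obj F)
    (FormalB.PullCoh.isCoh_pullback _ hF) (specializes_refl z) ⟨hz, hmax⟩
  rw [CycB.LocQuot.primeOf_refl] at h
  exact h

omit [LocallyOfFiniteType f] in
/-- Associated points of `F_s` lie in the support. -/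
theorem mem_supp_of_mem_ass (s : S) (z : f.fiber s)
    (hz : z ∈ AssSch.Ass ((Scheme.Modules.pullback (f.fiberι s)).obj F)) : z ∈ suppF f F s := by
  by_contra h
  have h1 : Subsingleton (((Scheme.Modules.pullback (f.fiberι s)).obj F).presheaf.stalk z) :=
    not_nontrivial_iff_subsingleton.mp h
  exact not_isAssociatedPrime_of_subsingleton hz

theorem exists_isMax (hF : Coh.IsCoh F) (s : S) (z : f.fiber s) (hz : z ∈ suppF f F s) :
    ∃ w ∈ suppF f F s, w ⤳ z ∧ ∀ z' ∈ suppF f F s, z' ⤳ w → z' = w := by
  have := isLocallyNoetherian_fiber f s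
  obtain ⟨w, h1, h2, h3⟩ := K891.LenIneq.exists_isMaxPt
    (F := (Scheme.Modules.pullback (f.fiberι s)).obj F)
    (FormalB.PullCoh.isCoh_pullback _ hF) z hz
  exact ⟨w, h2, h1, h3⟩

/-- The dimensions of the irreducible components of the support of `F_s`. -/
theorem exists_component_iff (hF : Coh.IsCoh F) (s : S) (n : ℕ) :
    (∃ Z ∈ irreducibleComponents ↥(suppF f F s), topologicalKrullDim ↥Z = (n : WithBot ℕ∞)) ↔
      ∃ z ∈ suppF f F s, (∀ z' ∈ suppF f F s, z' ⤳ z → z' = z) ∧ rtd f (f.fiberι s z) = n := by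
  have hcl := isClosed_suppF f F hF s
  constructor
  · rintro ⟨Z, hZ, hd⟩
    obtain ⟨z, hz, hmax, rfl⟩ := (mem_irreducibleComponents_iff hcl Z).mp hZ
    rw [dim_preimage_closure hcl hz] at hd
    exact ⟨z, hz, hmax, (FibDim.dim_closure_eq_iff f s z n).mp hd⟩
  · rintro ⟨z, hz, hmax, hd⟩
    refine ⟨_, (mem_irreducibleComponents_iff hcl _).mpr ⟨z, hz, hmax, rfl⟩, ?_⟩
    rw [dim_preimage_closure hcl hz]
    exact (FibDim.dim_closure_eq_iff f s z n).mpr hd

/-- `n` is the dimension of an irreducible component of `Supp F_s` iff `s` is the image of a point of `Supp F` such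
that all relative associated points specializing to it in its fibre have dimension `n`. -/
theorem setOf_eq_image (hF : Coh.IsCoh F) (n : ℕ) :
    {s : S | ∃ Z ∈ irreducibleComponents ↥(suppF f F s), topologicalKrullDim ↥Z = (n : WithBot ℕ∞)} =
      f '' ({x : X | ∀ z : X, z ⤳ x → f z = f x → z ∈ MoreMor.relAss f F → ∃ m ∈ ({n} : Set ℕ), rtd f z = m} ∩
        {x : X | Nontrivial (F.presheaf.stalk x)}) := by
  ext s
  refine (exists_component_iff f F hF s n).trans ?_
  constructor
  · rintro ⟨z, hz, hmax, hd⟩
    refine ⟨f.fiberι s z, ⟨?_, (supp_fiber_iff f F hF s z).mp hz⟩, FibDim.fiberι_base f s z⟩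
    intro w hw hfw hwa
    rw [FibDim.fiberι_base f s z] at hfw
    obtain ⟨w, rfl⟩ := FibDim.exists_fiberι_eq f s w hfw
    have h1 := mem_supp_of_mem_ass f F s w ((FibAssSch.mem_ass_fiber_iff f F s w).mpr hwa)
    have h2 := hmax w h1 ((FibDim.specializes_iff f s w z).mpr hw)
    subst h2
    exact ⟨n, rfl, hd⟩
  · rintro ⟨x, ⟨hx, hxs⟩, rfl⟩
    have h1 : f.asFiber x ∈ suppF f F (f x) := by
      rw [supp_fiber_iff f F hF, f.fiberι_asFiber]
      exact hxs
    obtain ⟨w, hw, hwx, hmax⟩ := exists_isMax f F hF _ _ h1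
    refine ⟨w, hw, hmax, ?_⟩
    have h2 := (FibDim.specializes_iff f _ _ _).mp hwx
    rw [f.fiberι_asFiber] at h2
    obtain ⟨m, hm, hm'⟩ := hx (f.fiberι _ w) h2 (FibDim.fiberι_base f _ w)
      ((FibAssSch.mem_ass_fiber_iff f F _ w).mp (mem_ass_of_isMax f F hF _ w hw hmax))
    rw [hm', Set.mem_singleton_iff.mp hm]

end Mod

/-- For `f` locally of finite presentation and `F` finitely presented and flat, the set of `s` such that `n` is the
dimension of an irreducible component of `Supp F_s` is open. -/
theorem isOpen_dim_mem {X S : Scheme.{u}} (f : X ⟶ S) [LocallyOfFinitePresentation f] (F : X.Modules)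
    (hF : CohB1.IsFP F) (hflat : FlatMod.IsFlatOver f F) (n : ℕ) :
    IsOpen {s : S | ∃ Z ∈ irreducibleComponents ↥(suppF f F s),
      topologicalKrullDim ↥Z = (n : WithBot ℕ∞)} := by
  rw [setOf_eq_image f F (Models2.FPCoh.isCoh_of_isFP hF) n]
  exact SuppOpen.isOpen_image F f hF hflat _ (FibAssSch.isOpen_forall_mem f F hF hflat {n})

end K128.SuppComp
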