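import Groth.Agent.EGA43.K128.FibTrd
import Groth.Agent.Ega43.FibAff

/-!
# Closedness of the loci of the primes specializing associated primes of the fibres of given dimension

Algebraic part: `A → B` of finite presentation, `M` a finitely presented `B`-module flat over `A`. For every
`d`, the set of primes `q` of `B` having a generization `q'` in the same fibre which is an associated prime of
the fibre module and has residue extension of transcendence degree `d` is closed.
-/

set_option autoImplicit false
universe u v w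

open TensorProduct EGA4 Function IsLocalRing CategoryTheory

namespace K128.FibAssAlg

open Groth.Agent Groth.Agent.Ega43 Groth.Agent.Ega43.FibTransfer Groth.Agent.Ega43.FibCM Groth.Agent.Ega43.FibSpec
  Groth.Agent.Ega43.FibChev Groth.Agent.Ega43.FibPd Groth.Agent.CycB.TrdegAlg

attribute [local instance] FibCM.isLocalRing_fib

/-- The maximal ideal is associated to the module. -/
def AssMax (R : Type u) (M : Type v) [CommRing R] [IsLocalRing R] [AddCommGroup M] [Module R M] : Prop :=
  IsAssociatedPrime (maximalIdeal R) M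

theorem assMax_congr {R : Type u} {R' : Type v} [CommRing R] [IsLocalRing R] [CommRing R'] [IsLocalRing R']
    (σ : R →+* R') (hσ : Function.Surjective σ) (M : Type w) [AddCommGroup M] [Module R M]
    (M' : Type*) [AddCommGroup M'] [Module R' M']
    (e : M ≃+ M') (he : ∀ (r : R) (m : M), e (r • m) = σ r • e m) :
    AssMax R M ↔ AssMax R' M' := by
  have hmax : maximalIdeal R = (maximalIdeal R').comap σ := by
    have : ((maximalIdeal R').comap σ).IsMaximal := Ideal.comap_isMaximal_of_surjective σ hσ
    exact (IsLocalRing.eq_maximalIdeal this).symm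
  have hcol : ∀ m : M, (⊥ : Submodule R M).colon {m} = ((⊥ : Submodule R' M').colon {e m}).comap σ := by
    intro m
    ext r
    rw [Ideal.mem_comap, Submodule.mem_colon_singleton, Submodule.mem_colon_singleton, Submodule.mem_bot,
      Submodule.mem_bot, ← he]
    exact (map_eq_zero_iff e e.injective).symm
  have hinj : Function.Injective (Ideal.comap σ) := Ideal.comap_injective_of_surjective σ hσ
  unfold AssMax
  rw [IsAssociatedPrime, IsAssociatedPrime, Submodule.isAssociatedPrime_def, Submodule.isAssociatedPrime_def]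
  refine and_congr ?_ ?_
  · exact iff_of_true (maximalIdeal.isMaximal R).isPrime (maximalIdeal.isMaximal R').isPrime
  · constructor
    · rintro ⟨m, hm⟩
      refine ⟨e m, hinj ?_⟩
      rw [← hmax, hm, hcol, Ideal.comap_radical]
    · rintro ⟨m', hm'⟩
      refine ⟨e.symm m', ?_⟩
      rw [hcol, e.apply_symm_apply, ← Ideal.comap_radical, ← hm', ← hmax]

section Poly

variable (A : Type u) [CommRing A] (N : ℕ) (M : Type u) [AddCommGroup M]
  [Module (MvPolynomial (Fin N) A) M]

/-- The primes of `A[X_1, …, X_N]` at which the projective dimension of the fibre module is at least `m`. -/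
def W (m : ℕ) : Set (PrimeSpectrum (MvPolynomial (Fin N) A)) :=
  {Q | m = 0 ∨ ∃ n, m = n + 1 ∧ ¬ HasProjectiveDimensionLE (ModuleCat.of
        (FibLocRing A (MvPolynomial (Fin N) A) Q.asIdeal)
        (FibLocMod A (MvPolynomial (Fin N) A) Q.asIdeal M)) n}

theorem isClosed_W [Module A M] [IsScalarTower A (MvPolynomial (Fin N) A) M]
    [Module.FinitePresentation (MvPolynomial (Fin N) A) M] [Module.Flat A M] (m : ℕ) :
    IsClosed (W A N M m) := by
  rcases m with _ | n
  · simp [W]
  · have : W A N M (n + 1) = {Q |
      HasProjectiveDimensionLE (ModuleCat.of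
      (FibLocRing A (MvPolynomial (Fin N) A) Q.asIdeal)
      (FibLocMod A (MvPolynomial (Fin N) A) Q.asIdeal M)) n}ᶜ := by
      ext Q
      simp only [W, Set.mem_ofPred_eq, Set.mem_compl_iff]
      constructor
      · rintro (h | ⟨n', hn', h⟩)
        · omega
        · obtain rfl : n = n' := by omega
          exact h
      · intro h
        exact Or.inr ⟨n, rfl, h⟩
    rw [this]
    exact (isOpen_pd A _ (FlatKer.kerFP A (MvPolynomial (Fin N) A)) n M).isClosed_compl

/-- At a prime of the support: associated prime of the fibre and `dim ≤ m` iff `dim ≤ m ≤ pd`. -/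
theorem assMax_iff [Module.Finite (MvPolynomial (Fin N) A) M] (m : ℕ)
    (Q : PrimeSpectrum (MvPolynomial (Fin N) A)) :
    (AssMax (FibLocRing A (MvPolynomial (Fin N) A) Q.asIdeal)
        (FibLocMod A (MvPolynomial (Fin N) A) Q.asIdeal M) ∧
      ringKrullDim (FibLocRing A (MvPolynomial (Fin N) A) Q.asIdeal) = m) ↔
    (Q ∈ Module.support (MvPolynomial (Fin N) A) M ∧ Q ∈ W A N M m ∧
      ringKrullDim (FibLocRing A (MvPolynomial (Fin N) A) Q.asIdeal) ≤ m) := by
  have hreg := isRegularLocalRing_fib (A := A) (N := N) Q.asIdeal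
  by_cases hQ : Q ∈ Module.support (MvPolynomial (Fin N) A) M
  · have hnt := nontrivial_fib A N M Q hQ
    obtain ⟨e, d, h, hpd, hdep, hdim, hsum⟩ := exists_data
      (B := FibLocRing A (MvPolynomial (Fin N) A) Q.asIdeal)
      (FibLocMod A (MvPolynomial (Fin N) A) Q.asIdeal M)
    have h0 : AssMax (FibLocRing A (MvPolynomial (Fin N) A) Q.asIdeal)
        (FibLocMod A (MvPolynomial (Fin N) A) Q.asIdeal M) ↔ d = 0 := by
      have h1 := Ega4A.DepthBasic.depth_eq_zero_iff
        (R := FibLocRing A (MvPolynomial (Fin N) A) Q.asIdeal)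
        (FibLocMod A (MvPolynomial (Fin N) A) Q.asIdeal M)
      rw [hdep] at h1
      refine Iff.trans ?_ (h1.symm.trans ?_)
      · rfl
      · norm_cast
    have hW : Q ∈ W A N M m ↔ m ≤ e := by
      unfold W
      rw [Set.mem_ofPred_eq]
      simp only [hpd]
      constructor
      · rintro (h | ⟨n, rfl, h⟩) <;> omega
      · intro h
        rcases m with _ | n
        · exact Or.inl rfl
        · exact Or.inr ⟨n, rfl, by omega⟩
    rw [h0, hW, hdim]
    simp only [hQ, true_and]
    have e1 : ((h : ℕ) : WithBot ℕ∞) = ((m : ℕ) : WithBot ℕ∞) ↔ h = m := by norm_cast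
    have e2 : ((h : ℕ) : WithBot ℕ∞) ≤ ((m : ℕ) : WithBot ℕ∞) ↔ h ≤ m := by norm_cast
    rw [e1, e2]
    omega
  · have hsub := subsingleton_fib A N M Q hQ
    simp only [hQ, false_and, iff_false, not_and]
    intro h
    exact absurd h not_isAssociatedPrime_of_subsingleton

/-- Polynomial case. -/
theorem isClosed_poly [Module A M] [IsScalarTower A (MvPolynomial (Fin N) A) M]
    [Module.FinitePresentation (MvPolynomial (Fin N) A) M] [Module.Flat A M] (m : ℕ) :
    IsClosed {Q : PrimeSpectrum (MvPolynomial (Fin N) A) | ∃ Q' : PrimeSpectrum (MvPolynomial (Fin N) A),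
      Q' ≤ Q ∧ PrimeSpectrum.comap (algebraMap A (MvPolynomial (Fin N) A)) Q' =
        PrimeSpectrum.comap (algebraMap A (MvPolynomial (Fin N) A)) Q ∧
      AssMax (FibLocRing A (MvPolynomial (Fin N) A) Q'.asIdeal)
        (FibLocMod A (MvPolynomial (Fin N) A) Q'.asIdeal M) ∧
      ringKrullDim (FibLocRing A (MvPolynomial (Fin N) A) Q'.asIdeal) = m} := by
  have h := isClosed_E (Module.support (MvPolynomial (Fin N) A) M ∩ W A N M m)
    (Module.isClosed_support.inter (isClosed_W A N M m)) m
  convert h using 1
  ext Q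
  constructor
  · rintro ⟨Q', hle, hc, h1⟩
    obtain ⟨h2, h3, h4⟩ := (assMax_iff A N M m Q').mp h1
    exact ⟨Q', ⟨h2, h3⟩, hle, hc, h4⟩
  · rintro ⟨Q', ⟨h2, h3⟩, hle, hc, h4⟩
    exact ⟨Q', hle, hc, (assMax_iff A N M m Q').mpr ⟨h2, h3, h4⟩⟩

end Poly

section Alg

variable {A B : Type u} [CommRing A] [CommRing B] [Algebra A B]

/-- The transcendence degree of `κ(q)` over `κ(q ∩ A)`. -/
noncomputable def td (A : Type u) {B : Type u} [CommRing A] [CommRing B] [Algebra A B] (q : Ideal B) :
    Cardinal.{u} :=
  trd (Ideal.quotientMap q (algebraMap A B) (le_refl (q.comap (algebraMap A B))))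

theorem td_comap_surjective {P : Type u} [CommRing P] [Algebra A P] [Algebra P B] [IsScalarTower A P B]
    (hφ : Function.Surjective (algebraMap P B)) (q : Ideal B) [q.IsPrime]
    (h : q.comap (algebraMap A B) ≤ (q.comap (algebraMap P B)).comap (algebraMap A P)) :
    td A q = trd (Ideal.quotientMap (q.comap (algebraMap P B)) (algebraMap A P) h) := by
  let ψ : P ⧸ (q.comap (algebraMap P B)) →+* B ⧸ q :=
    Ideal.quotientMap q (algebraMap P B) (le_refl _)
  have hψi : Function.Injective ψ := Ideal.quotientMap_injective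
  have hψs : Function.Surjective ψ := Ideal.quotientMap_surjective hφ
  have hcomp : ψ.comp (Ideal.quotientMap (q.comap (algebraMap P B)) (algebraMap A P) h) =
      Ideal.quotientMap q (algebraMap A B) (le_refl (q.comap (algebraMap A B))) := by
    apply Ideal.Quotient.ringHom_ext
    ext a
    simp only [RingHom.comp_apply, Ideal.quotientMap_mk, ψ]
    rw [← IsScalarTower.algebraMap_apply]
  have hi : Function.Injective (Ideal.quotientMap (q.comap (algebraMap P B)) (algebraMap A P) h) := by
    have h1 : Function.Injective (Ideal.quotientMap q (algebraMap A B)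
      (le_refl (q.comap (algebraMap A B)))) := Ideal.quotientMap_injective
    rw [← hcomp] at h1
    exact Function.Injective.of_comp h1
  unfold td
  rw [← hcomp, trd_comp' _ ψ hi hψi, trd_eq_zero_of_surjective ψ hψi hψs, add_zero]

variable (M : Type u) [AddCommGroup M] [Module B M]

/-- The primes specializing, in their fibre, an associated prime of the fibre module with residue extension
of transcendence degree `d`. -/
def S (A B : Type u) [CommRing A] [CommRing B] [Algebra A B] (M : Type u) [AddCommGroup M]
    [Module B M] (d : ℕ) : Set (PrimeSpectrum B) :=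
  {q : PrimeSpectrum B | ∃ q' : PrimeSpectrum B, q' ≤ q ∧
    PrimeSpectrum.comap (algebraMap A B) q' = PrimeSpectrum.comap (algebraMap A B) q ∧
    AssMax (FibLocRing A B q'.asIdeal) (FibLocMod A B q'.asIdeal M) ∧ td A q'.asIdeal = d}

theorem exists_td_le [Algebra.FiniteType A B] :
    ∃ N : ℕ, ∀ (q : Ideal B) [q.IsPrime], td A q ≤ N := by
  obtain ⟨N, φ, hφ⟩ := (Algebra.FiniteType.iff_quotient_mvPolynomial'' (R := A) (S := B)).mp inferInstance
  refine ⟨N, fun q _ => ?_⟩
  let : Algebra (MvPolynomial (Fin N) A) B := φ.toRingHom.toAlgebra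
  have : IsScalarTower A (MvPolynomial (Fin N) A) B :=
    IsScalarTower.of_algebraMap_eq' φ.comp_algebraMap.symm
  have hp : (q.comap (algebraMap (MvPolynomial (Fin N) A) B)).comap
      (algebraMap A (MvPolynomial (Fin N) A)) = q.comap (algebraMap A B) := by
    rw [Ideal.comap_comap, ← IsScalarTower.algebraMap_eq]
  obtain ⟨m, d, -, hd, hmd⟩ := FibTrd.exists_dim_add_trd
    (q.comap (algebraMap (MvPolynomial (Fin N) A) B)) (q.comap (algebraMap A B)) hp hp.ge
  rw [td_comap_surjective (P := MvPolynomial (Fin N) A) hφ q hp.ge, hd]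
  exact_mod_cast (show d ≤ N by omega)

theorem isClosed_S [Algebra.FinitePresentation A B] [Module A M] [IsScalarTower A B M]
    [Module.FinitePresentation B M] [Module.Flat A M] (d : ℕ) : IsClosed (S A B M d) := by
  obtain ⟨N, φ, hφ, hker⟩ := FibAff.exists_poly (A := A) (B := B)
  let : Algebra (MvPolynomial (Fin N) A) B := φ.toRingHom.toAlgebra
  have : IsScalarTower A (MvPolynomial (Fin N) A) B :=
    IsScalarTower.of_algebraMap_eq' φ.comp_algebraMap.symm
  let : Module (MvPolynomial (Fin N) A) M := Module.compHom M (algebraMap (MvPolynomial (Fin N) A) B)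
  have : IsScalarTower (MvPolynomial (Fin N) A) B M := IsScalarTower.of_algebraMap_smul fun _ _ ↦ rfl
  have : IsScalarTower A (MvPolynomial (Fin N) A) M := by
    refine IsScalarTower.of_algebraMap_smul fun r x ↦ ?_
    rw [← algebraMap_smul B (algebraMap A (MvPolynomial (Fin N) A) r) x,
      ← IsScalarTower.algebraMap_apply, algebraMap_smul]
  have : Module.FinitePresentation (MvPolynomial (Fin N) A) B :=
    Module.finitePresentation_of_surjective (Algebra.linearMap (MvPolynomial (Fin N) A) B) hφ hker
  have : Module.FinitePresentation (MvPolynomial (Fin N) A) M := .trans (MvPolynomial (Fin N) A) M B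
  have hcomap : ∀ q' : PrimeSpectrum B, PrimeSpectrum.comap (algebraMap A (MvPolynomial (Fin N) A))
      (PrimeSpectrum.comap (algebraMap (MvPolynomial (Fin N) A) B) q') =
        PrimeSpectrum.comap (algebraMap A B) q' := by
    intro q'
    rw [← PrimeSpectrum.comap_comp_apply, ← IsScalarTower.algebraMap_eq]
  have hass : ∀ q' : PrimeSpectrum B, AssMax (FibLocRing A (MvPolynomial (Fin N) A)
        (PrimeSpectrum.comap (algebraMap (MvPolynomial (Fin N) A) B) q').asIdeal)
        (FibLocMod A (MvPolynomial (Fin N) A)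
        (PrimeSpectrum.comap (algebraMap (MvPolynomial (Fin N) A) B) q').asIdeal M) ↔
      AssMax (FibLocRing A B q'.asIdeal) (FibLocMod A B q'.asIdeal M) := by
    intro q'
    obtain ⟨σ, e, hσ, he⟩ := exists_fib_equiv (A := A) hφ M q'.asIdeal
    exact assMax_congr σ hσ (FibLocMod A (MvPolynomial (Fin N) A)
      (q'.asIdeal.comap (algebraMap (MvPolynomial (Fin N) A) B)) M) (FibLocMod A B q'.asIdeal M) e he
  have hdim : ∀ q' : PrimeSpectrum B, ∃ m n : ℕ, m + n = N ∧ td A q'.asIdeal = n ∧
      ringKrullDim (FibLocRing A (MvPolynomial (Fin N) A)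
        (PrimeSpectrum.comap (algebraMap (MvPolynomial (Fin N) A) B) q').asIdeal) = m := by
    intro q'
    have hp : (q'.asIdeal.comap (algebraMap (MvPolynomial (Fin N) A) B)).comap
        (algebraMap A (MvPolynomial (Fin N) A)) = q'.asIdeal.comap (algebraMap A B) := by
      rw [Ideal.comap_comap, ← IsScalarTower.algebraMap_eq]
    obtain ⟨m, n, hm, hn, hmn⟩ := FibTrd.exists_dim_add_trd
      (q'.asIdeal.comap (algebraMap (MvPolynomial (Fin N) A) B)) (q'.asIdeal.comap (algebraMap A B)) hp hp.ge
    refine ⟨m, n, hmn, ?_, hm⟩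
    rw [td_comap_surjective (P := MvPolynomial (Fin N) A) hφ q'.asIdeal hp.ge, hn]
  by_cases hdN : d ≤ N
  · have hcl := (isClosed_poly A N M (N - d)).preimage
      (PrimeSpectrum.continuous_comap (algebraMap (MvPolynomial (Fin N) A) B))
    convert hcl using 1
    ext q
    rw [Set.mem_preimage, Set.mem_ofPred_eq]
    constructor
    · rintro ⟨q', hle, hc, ha, ht⟩
      refine ⟨PrimeSpectrum.comap (algebraMap (MvPolynomial (Fin N) A) B) q', Ideal.comap_mono hle, ?_,
        (hass q').mpr ha, ?_⟩
      · rw [hcomap, hcomap, hc]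
      · obtain ⟨m, n, hmn, hn, hm⟩ := hdim q'
        rw [hm]
        rw [hn] at ht
        have : n = d := by exact_mod_cast ht
        congr 2
        omega
    · rintro ⟨Q', hle, hc, ha, ht⟩
      have hsupp : Q' ∈ Module.support (MvPolynomial (Fin N) A) M :=
        ((assMax_iff A N M (N - d) Q').mp ⟨ha, ht⟩).1
      have hrange : Q' ∈ Set.range (PrimeSpectrum.comap (algebraMap (MvPolynomial (Fin N) A) B)) := by
        rw [range_comap_of_surjective _ (algebraMap (MvPolynomial (Fin N) A) B) hφ]
        rw [Module.support_eq_zeroLocus] at hsupp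
        refine PrimeSpectrum.zeroLocus_anti_mono (t := ↑(Module.annihilator (MvPolynomial (Fin N) A) M))
          ?_ hsupp
        intro r hr
        rw [SetLike.mem_coe, Module.mem_annihilator]
        intro m
        change (algebraMap (MvPolynomial (Fin N) A) B r) • m = 0
        rw [RingHom.mem_ker.mp hr, zero_smul]
      obtain ⟨q', rfl⟩ := hrange
      refine ⟨q', (Ideal.comap_le_comap_iff_of_surjective _ hφ _ _).mp hle, ?_, (hass q').mp ha, ?_⟩
      · rw [← hcomap, hc, hcomap]
      · obtain ⟨m, n, hmn, hn, hm⟩ := hdim q'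
        rw [hm] at ht
        rw [hn]
        have : m = N - d := by exact_mod_cast ht
        congr 1
        omega
  · have : S A B M d = ∅ := by
      rw [Set.eq_empty_iff_forall_notMem]
      rintro q ⟨q', -, -, -, ht⟩
      obtain ⟨m, n, hmn, hn, -⟩ := hdim q'
      rw [hn] at ht
      have : n = d := by exact_mod_cast ht
      omega
    rw [this]
    exact isClosed_empty

end Alg

end K128.FibAssAlg
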