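import Groth.Agent.EGA43.K128.FibAssAlg
import Groth.Agent.EGA43.K128.FibInv
import Groth.Agent.CycB.RelDim2
import Groth.Prelude.Def_MoreMor
import Groth.Prelude.Def_FDesc

/-!
# Openness of the loci defined by the dimensions of the associated points of the fibres

For `f : X ⟶ S` locally of finite presentation and `F` a finitely presented module flat over `S`:

* `isClosed_SS`: for every `d` the points specializing, in their fibre, a relative associated point `z` with
  `trdeg κ(z)/κ(f z) = d` form a closed set;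
* `isOpen_forall_mem`: for every set `Φ` of natural numbers, the points `x` such that all relative associated
  points specializing to `x` in the fibre of `x` have dimension in `Φ` form an open set;
* `mem_ass_fiber_iff`: the associated points of the restriction to a fibre are the relative associated points.
-/

set_option autoImplicit false
universe u

open CategoryTheory CategoryTheory.Limits AlgebraicGeometry TopologicalSpace
open IsLocalRing

namespace K128.FibAssSch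

open Groth.Agent Groth.Agent.CycB.RelDim K128.FibAssAlg K128.FibInv

theorem inv_assMax : Inv (fun R M _ _ _ _ => AssMax R M) :=
  fun _ _ M M' _ _ _ _ _ _ _ _ σ hσ e he => assMax_congr σ hσ M M' e he

variable {X S : Scheme.{u}} (f : X ⟶ S) (F : X.Modules)

theorem mem_relAss_iff_assMax (x : X) : x ∈ MoreMor.relAss f F ↔
    AssMax (X.presheaf.stalk x) (F.presheaf.stalk x ⧸ (Ega4dB.FiberDepth.mIdeal f x •
      (⊤ : Submodule (X.presheaf.stalk x) (F.presheaf.stalk x)))) := Iff.rfl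

/-- The associated points of the restriction of `F` to a fibre are the relative associated points of `F`. -/
theorem mem_ass_fiber_iff (s : S) (z : f.fiber s) :
    z ∈ AssSch.Ass ((Scheme.Modules.pullback (f.fiberι s)).obj F) ↔ f.fiberι s z ∈ MoreMor.relAss f F :=
  stalk_fiber inv_assMax f F s z

/-- The points which specialize, in their fibre, a relative associated point `z` with
`trdeg κ(z)/κ(f z) = d`. -/
def SS (d : ℕ) : Set X := {x | ∃ z : X, z ⤳ x ∧ f z = f x ∧ z ∈ MoreMor.relAss f F ∧ rtd f z = d}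

section Chart

variable {V : S.Opens} (hV : IsAffineOpen V) {U : X.Opens} (hU : IsAffineOpen U) (h : U ≤ f ⁻¹ᵁ V)
    [i1 : Algebra Γ(S, V) Γ(X, U)] (hi1 : algebraMap Γ(S, V) Γ(X, U) = (f.appLE V U h).hom)

include hi1 in
theorem comap_primeIdealOf (x : X) (hx : x ∈ U) :
    PrimeSpectrum.comap (algebraMap Γ(S, V) Γ(X, U)) (hU.primeIdealOf ⟨x, hx⟩) =
      hV.primeIdealOf ⟨f x, h hx⟩ := by
  have h1 := IsAffineOpen.comap_primeIdealOf_appLE V hV U hU h hx
  rw [hi1]
  exact h1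

include hV hi1 in
theorem td_eq (x : X) (hx : x ∈ U) : td Γ(S, V) (hU.primeIdealOf ⟨x, hx⟩).asIdeal = rtd f x := by
  have h1 := comap_primeIdealOf f hV hU h hi1 x hx
  have h2 : (hU.primeIdealOf ⟨x, hx⟩).asIdeal.comap (algebraMap Γ(S, V) Γ(X, U)) =
      (hV.primeIdealOf ⟨f x, h hx⟩).asIdeal := congrArg PrimeSpectrum.asIdeal h1
  have h3 := rtd_eq_trd_quotientMap f hV hU h x hx (h hx)
    ((hU.primeIdealOf ⟨x, hx⟩).asIdeal.comap (algebraMap Γ(S, V) Γ(X, U))) h2 (by rw [hi1])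
  rw [h3]
  unfold td
  congr 1
  apply Ideal.Quotient.ringHom_ext
  ext a
  simp only [RingHom.comp_apply, Ideal.quotientMap_mk, hi1]

include hV hi1 in
theorem mem_SS_iff (hF : Coh.IsQCoh F) (d : ℕ) (x : X) (hx : x ∈ U) :
    x ∈ SS f F d ↔ hU.primeIdealOf ⟨x, hx⟩ ∈ FibAssAlg.S Γ(S, V) Γ(X, U) Γ(F, U) d := by
  constructor
  · rintro ⟨z, hzx, hfz, hz, hd⟩
    have hzU : z ∈ U := hzx.mem_open U.2 hx
    refine ⟨hU.primeIdealOf ⟨z, hzU⟩, primeIdealOf_le_of_specializes hU hzx hx hzU, ?_, ?_, ?_⟩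
    · rw [comap_primeIdealOf f hV hU h hi1, comap_primeIdealOf f hV hU h hi1]
      congr 2
    · exact (iff_fibLoc inv_assMax f F hF hV hU h z hzU hi1).mp hz
    · rw [td_eq f hV hU h hi1]
      exact hd
  · rintro ⟨q', hle, hc, ha, hd⟩
    obtain ⟨⟨z, hzU⟩, hz⟩ : ∃ z : U, hU.primeIdealOf z = q' :=
      (Scheme.homeoOfIso hU.isoSpec).surjective q'
    subst hz
    refine ⟨z, ?_, ?_, (iff_fibLoc inv_assMax f F hF hV hU h z hzU hi1).mpr ha, ?_⟩
    · have h1 : Topology.IsInducing hU.fromSpec := hU.fromSpec.isOpenEmbedding.isInducing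
      rw [PrimeSpectrum.le_iff_specializes] at hle
      have h2 := h1.specializes_iff.mpr hle
      rw [hU.fromSpec_primeIdealOf, hU.fromSpec_primeIdealOf] at h2
      exact h2
    · rw [comap_primeIdealOf f hV hU h hi1, comap_primeIdealOf f hV hU h hi1] at hc
      exact primeIdealOf_inj hV _ _ hc
    · rw [td_eq f hV hU h hi1] at hd
      exact hd

end Chart

variable [LocallyOfFinitePresentation f] (hF : CohB1.IsFP F) (hflat : FlatMod.IsFlatOver f F)

include hF hflat in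
theorem isClosed_SS (d : ℕ) : IsClosed (SS f F d) := by
  have hqc := PerfC.FPSections.isQCoh_of_isFP hF
  rw [← isOpen_compl_iff, isOpen_iff_forall_mem_open]
  intro y hy
  obtain ⟨V, hV, hyV, -⟩ := exists_isAffineOpen_mem_and_subset (x := f y) (U := ⊤) trivial
  obtain ⟨U, hU, hyU, h⟩ := exists_isAffineOpen_mem_and_subset (x := y) (U := f ⁻¹ᵁ V) hyV
  let i1 : Algebra Γ(S, V) Γ(X, U) := (f.appLE V U h).hom.toAlgebra
  have hi1 : algebraMap Γ(S, V) Γ(X, U) = (f.appLE V U h).hom := rfl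
  let i2 : Module Γ(S, V) Γ(F, U) := Module.compHom Γ(F, U) (f.appLE V U h).hom
  have t1 : IsScalarTower Γ(S, V) Γ(X, U) Γ(F, U) := ⟨fun a b m => mul_smul (f.appLE V U h a) b m⟩
  have h1 : Algebra.FinitePresentation Γ(S, V) Γ(X, U) := f.finitePresentation_appLE hV hU h
  have h2 : Module.FinitePresentation Γ(X, U) Γ(F, U) :=
    Desc.FPSections.finitePresentation_sections hU hqc hF
  have h3 : Module.Flat Γ(S, V) Γ(F, U) := Ega43.FibSch2.flat_sections f F hqc hflat hV hU h hi1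
  have ho := (isClosed_S (A := Γ(S, V)) (B := Γ(X, U)) Γ(F, U) d).isOpen_compl
  have hcont : Continuous hU.primeIdealOf := hU.isoSpec.hom.continuous
  refine ⟨Subtype.val '' (hU.primeIdealOf ⁻¹' (FibAssAlg.S Γ(S, V) Γ(X, U) Γ(F, U) d)ᶜ), ?_,
    U.isOpenEmbedding'.isOpenMap _ (ho.preimage hcont), ⟨⟨y, hyU⟩, ?_, rfl⟩⟩
  · rintro _ ⟨⟨x, hx⟩, hxq, rfl⟩ hx'
    exact hxq ((mem_SS_iff f F hV hU h hi1 hqc d x hx).mp hx')
  · intro hx'
    exact hy ((mem_SS_iff f F hV hU h hi1 hqc d y hyU).mpr hx')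

include hF hflat in
theorem isOpen_forall_mem (Φ : Set ℕ) :
    IsOpen {x : X | ∀ z : X, z ⤳ x → f z = f x → z ∈ MoreMor.relAss f F → ∃ n ∈ Φ, rtd f z = n} := by
  rw [isOpen_iff_forall_mem_open]
  intro y hy
  obtain ⟨V, hV, hyV, -⟩ := exists_isAffineOpen_mem_and_subset (x := f y) (U := ⊤) trivial
  obtain ⟨U, hU, hyU, h⟩ := exists_isAffineOpen_mem_and_subset (x := y) (U := f ⁻¹ᵁ V) hyV
  let i1 : Algebra Γ(S, V) Γ(X, U) := (f.appLE V U h).hom.toAlgebra
  have hi1 : algebraMap Γ(S, V) Γ(X, U) = (f.appLE V U h).hom := rfl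
  have h1 : Algebra.FinitePresentation Γ(S, V) Γ(X, U) := f.finitePresentation_appLE hV hU h
  obtain ⟨N, hN⟩ := exists_td_le (A := Γ(S, V)) (B := Γ(X, U))
  have hrtd : ∀ z ∈ U, ∃ n : ℕ, n ≤ N ∧ rtd f z = n := by
    intro z hz
    have h2 := hN (hU.primeIdealOf ⟨z, hz⟩).asIdeal
    rw [td_eq f hV hU h hi1] at h2
    obtain ⟨n, hn⟩ := Cardinal.lt_aleph0.mp (h2.trans_lt (Cardinal.natCast_lt_aleph0 (n := N)))
    rw [hn] at h2
    exact ⟨n, by exact_mod_cast h2, hn⟩
  refine ⟨(U : Set X) ∩ ⋂ d ∈ {d | d ≤ N ∧ d ∉ Φ}, (SS f F d)ᶜ, ?_, ?_, hyU, ?_⟩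
  · rintro x ⟨hxU, hx⟩ z hzx hfz hz
    obtain ⟨n, hn, hn'⟩ := hrtd z (hzx.mem_open U.2 hxU)
    refine ⟨n, ?_, hn'⟩
    by_contra hΦ
    rw [Set.mem_iInter₂] at hx
    exact hx n ⟨hn, hΦ⟩ ⟨z, hzx, hfz, hz, hn'⟩
  · refine U.2.inter (Set.Finite.isOpen_biInter ?_ fun d _ => (isClosed_SS f F hF hflat d).isOpen_compl)
    exact (Set.finite_Iic N).subset fun d hd => hd.1
  · rw [Set.mem_iInter₂]
    rintro d ⟨-, hd⟩ ⟨z, hzy, hfz, hz, hdz⟩
    obtain ⟨n, hn, hn'⟩ := hy z hzy hfz hz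
    rw [hdz] at hn'
    have : d = n := by exact_mod_cast hn'
    exact hd (this ▸ hn)

end K128.FibAssSch
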