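import Groth.Agent.EGA43.K128.FibAssSch

/-!
# Points of the fibres: dimensions of closures, specializations
-/

set_option autoImplicit false
universe u

open CategoryTheory CategoryTheory.Limits AlgebraicGeometry TopologicalSpace
open IsLocalRing

namespace K128.FibDim

open Groth.Agent Groth.Agent.CycB.RelDim K128.FibAssAlg K128.FibInv K128.FibAssSch

variable {X S : Scheme.{u}} (f : X ⟶ S)

theorem fiberι_base (s : S) (z : f.fiber s) : f (f.fiberι s z) = s := by
  have h : f.fiberι s z ∈ Set.range (f.fiberι s) := ⟨z, rfl⟩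
  rw [f.range_fiberι s] at h
  exact h

theorem exists_fiberι_eq (s : S) (x : X) (hx : f x = s) : ∃ z : f.fiber s, f.fiberι s z = x := by
  have h : x ∈ f ⁻¹' {s} := hx
  rw [← f.range_fiberι s] at h
  exact h

theorem specializes_iff (s : S) (z w : f.fiber s) : z ⤳ w ↔ f.fiberι s z ⤳ f.fiberι s w :=
  ((f.fiberι s).isEmbedding.isInducing.specializes_iff).symm

theorem asFiber_mem_closure_iff (x : X) (z : f.fiber (f x)) :
    f.asFiber x ∈ closure {z} ↔ f.fiberι (f x) z ⤳ x := by
  rw [← specializes_iff_mem_closure, specializes_iff f, f.fiberι_asFiber]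

theorem dim_closure_eq_iff [LocallyOfFiniteType f] (s : S) (z : f.fiber s) (n : ℕ) :
    topologicalKrullDim (closure ({z} : Set (f.fiber s))) = (n : WithBot ℕ∞) ↔
      rtd f (f.fiberι s z) = n := by
  obtain ⟨m, h1, h2⟩ := exists_dim_closure_fiber f s z
  rw [h1, h2]
  constructor
  · intro h
    have : m = n := by exact_mod_cast h
    rw [this]
  · intro h
    have : m = n := by exact_mod_cast h
    rw [this]

end K128.FibDim
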