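import Groth.Agent.Ega43.FibChev
import Groth.Agent.CycB.TrdegAlg
import Groth.Agent.Ega4B.DimFT

/-!
# Transcendence degrees and dimensions of the local rings of the fibres of a polynomial ring

For a prime `Q` of `P = A[X_1, …, X_N]` over the prime `p` of `A`: `dim (P_Q / p P_Q) + trdeg κ(Q)/κ(p) = N`.
-/

set_option autoImplicit false
universe u

open TensorProduct EGA4

namespace K128.FibTrd

open Groth.Agent Groth.Agent.Ega43.FibChev Groth.Agent.CycB.TrdegAlg Groth.Agent.Ega4C.FibreTower

section General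

/-- Transcendence degrees of residue extensions computed in a ring `T` (a fibre ring). -/
theorem trd_abs {A B K T : Type u} [CommRing A] [CommRing B] [Field K] [CommRing T] [Algebra A B]
    [Algebra K T] (ψA : A →+* K) (hA : FracGen ψA) (ι : B →+* T)
    (hι : ∀ a, algebraMap K T (ψA a) = ι (algebraMap A B a))
    (key : ∀ x : T, ∃ a : A, ψA a ≠ 0 ∧ ∃ b : B, ι (algebraMap A B a) * x = ι b)
    (t : Ideal T) [t.IsPrime] (p : Ideal A) (hp : p = RingHom.ker ψA)
    (h : p ≤ (t.comap ι).comap (algebraMap A B)) :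
    trd (Ideal.quotientMap (t.comap ι) (algebraMap A B) h) = Algebra.trdeg K (T ⧸ t) := by
  let L := FractionRing (T ⧸ t)
  let ψB : B →+* L := ((algebraMap (T ⧸ t) L).comp (Ideal.Quotient.mk t)).comp ι
  let θ : K →+* L := algebraMap K L
  have hinjL : Function.Injective (algebraMap (T ⧸ t) L) := IsFractionRing.injective _ _
  have comm : ∀ a, θ (ψA a) = ψB (algebraMap A B a) := by
    intro a
    change algebraMap K L (ψA a) = algebraMap (T ⧸ t) L (Ideal.Quotient.mk t (ι (algebraMap A B a)))
    rw [← hι, IsScalarTower.algebraMap_apply K (T ⧸ t) L]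
    rfl
  have hne : ∀ a : A, ψA a ≠ 0 → ψB (algebraMap A B a) ≠ 0 := by
    intro a ha h0
    rw [← comm] at h0
    exact ha (θ.injective (h0.trans (map_zero _).symm))
  have hB : FracGen ψB := by
    intro z
    obtain ⟨x, y, hy, rfl⟩ := IsFractionRing.div_surjective (A := T ⧸ t) z
    obtain ⟨x, rfl⟩ := Ideal.Quotient.mk_surjective x
    obtain ⟨y, rfl⟩ := Ideal.Quotient.mk_surjective y
    obtain ⟨a, ha, b, hab⟩ := key x
    obtain ⟨a', ha', b', hab'⟩ := key y
    have hy' : algebraMap (T ⧸ t) L (Ideal.Quotient.mk t y) ≠ 0 :=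
      fun h0 => nonZeroDivisors.ne_zero hy (hinjL (h0.trans (map_zero _).symm))
    have e1 : ψB (algebraMap A B a) * algebraMap (T ⧸ t) L (Ideal.Quotient.mk t x) = ψB b := by
      change algebraMap (T ⧸ t) L (Ideal.Quotient.mk t _) * _ =
        algebraMap (T ⧸ t) L (Ideal.Quotient.mk t _)
      rw [← map_mul, ← map_mul, hab]
    have e2 : ψB (algebraMap A B a') * algebraMap (T ⧸ t) L (Ideal.Quotient.mk t y) = ψB b' := by
      change algebraMap (T ⧸ t) L (Ideal.Quotient.mk t _) * _ =
        algebraMap (T ⧸ t) L (Ideal.Quotient.mk t _)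
      rw [← map_mul, ← map_mul, hab']
    refine ⟨b * algebraMap A B a', b' * algebraMap A B a, ?_, ?_⟩
    · rw [map_mul, ← e2]
      exact mul_ne_zero (mul_ne_zero (hne a' ha') hy') (hne a ha)
    · rw [map_mul, map_mul, ← e1, ← e2]
      rw [div_mul_eq_mul_div, div_eq_iff hy']
      ring
  have hkB : t.comap ι = RingHom.ker ψB := by
    ext b
    rw [RingHom.mem_ker]
    change ι b ∈ t ↔ algebraMap (T ⧸ t) L (Ideal.Quotient.mk t (ι b)) = 0
    rw [← Ideal.Quotient.eq_zero_iff_mem]
    exact ⟨fun h => by rw [h, map_zero], fun h => hinjL (h.trans (map_zero _).symm)⟩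
  rw [← trd_eq_trd_quotientMap (algebraMap A B) ψA ψB θ (RingHom.ext comm) hA hB p hp _ hkB h]
  have h1 : trd θ = Algebra.trdeg K L := trd_algebraMap
  rw [h1]
  exact trdeg_fractionField K (T ⧸ t) K L

variable {A B : Type u} [CommRing A] [CommRing B] [Algebra A B]

/-- The transcendence degree of the residue extension of a prime `ctr p t` of `B`. -/
theorem trd_ctr (p : Ideal A) [p.IsPrime] (t : Ideal (p.Fiber B)) [t.IsPrime]
    (h : p ≤ (ctr p t).comap (algebraMap A B)) :
    trd (Ideal.quotientMap (ctr p t) (algebraMap A B) h) =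
      Algebra.trdeg p.ResidueField (p.Fiber B ⧸ t) := by
  have hA : FracGen (algebraMap A p.ResidueField) := by
    intro z
    obtain ⟨a, b, hb, rfl⟩ := IsFractionRing.div_surjective (A := A ⧸ p) z
    obtain ⟨a, rfl⟩ := Ideal.Quotient.mk_surjective a
    obtain ⟨b, rfl⟩ := Ideal.Quotient.mk_surjective b
    have hb' : algebraMap (A ⧸ p) p.ResidueField (Ideal.Quotient.mk p b) ≠ 0 :=
      fun h0 => nonZeroDivisors.ne_zero hb ((FaithfulSMul.algebraMap_injective _ p.ResidueField)
        (h0.trans (map_zero _).symm))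
    exact ⟨a, b, hb', div_mul_cancel₀ _ hb'⟩
  have hp : p = RingHom.ker (algebraMap A p.ResidueField) := (Ideal.ker_algebraMap_residueField p).symm
  refine trd_abs (T := p.Fiber B) (algebraMap A p.ResidueField) hA
    (Algebra.TensorProduct.includeRight : B →ₐ[A] p.Fiber B).toRingHom ?_ ?_ t p hp h
  · intro a
    exact ((Algebra.TensorProduct.includeRight : B →ₐ[A] p.Fiber B).commutes a).symm
  · intro x
    obtain ⟨a, ha, b, hab⟩ := Ideal.Fiber.exists_smul_eq_one_tmul p x
    refine ⟨a, ?_, b, ?_⟩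
    · rw [Ne, ← RingHom.mem_ker, ← hp]
      exact ha
    · refine Eq.trans ?_ hab
      rw [Algebra.smul_def]
      congr 1
      exact (Algebra.TensorProduct.includeRight : B →ₐ[A] p.Fiber B).commutes a

end General

variable {A : Type u} [CommRing A] {N : ℕ}

/-- Over a polynomial ring: the dimension of the local ring of the fibre at `Q` and the transcendence
degree of the residue extension add up to the number of variables. -/
theorem exists_dim_add_trd (Q : Ideal (MvPolynomial (Fin N) A)) [Q.IsPrime] (p : Ideal A) [p.IsPrime]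
    (hp : Q.comap (algebraMap A (MvPolynomial (Fin N) A)) = p)
    (h : p ≤ Q.comap (algebraMap A (MvPolynomial (Fin N) A))) :
    ∃ m d : ℕ, ringKrullDim (FibLocRing A (MvPolynomial (Fin N) A) Q) = m ∧
      trd (Ideal.quotientMap Q (algebraMap A (MvPolynomial (Fin N) A)) h) = d ∧ m + d = N := by
  obtain ⟨t, ht, htQ⟩ := exists_prime_fibre p Q hp
  subst htQ
  rw [trd_ctr, ringKrullDim_fibLocRing]
  have h1 := height_add_dim p t
  obtain ⟨d, hd, hd'⟩ := Ega4B.DimFT.exists_dim p.ResidueField (p.Fiber (MvPolynomial (Fin N) A) ⧸ t)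
  rw [hd'] at h1
  have h2 : t.height + d = N := by exact_mod_cast h1
  obtain ⟨m, hm⟩ : ∃ m : ℕ, t.height = m := by
    refine ⟨t.height.toNat, (ENat.natCast_toNat ?_).symm⟩
    intro h3
    rw [h3, top_add] at h2
    exact absurd h2 (ENat.top_ne_natCast N)
  rw [hm] at h2 ⊢
  exact ⟨m, d, rfl, hd, by exact_mod_cast h2⟩

end K128.FibTrd
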