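import Mathlib.AlgebraicGeometry.Fiber
import Mathlib.AlgebraicGeometry.Morphisms.Proper

/-!
# From open sets of the source to open sets of the target of a closed morphism
-/

set_option autoImplicit false
universe u

open CategoryTheory AlgebraicGeometry

namespace K128.ProperOpen

variable {X Y : Scheme.{u}}

/-- Every point of the fibre over `y` lies over `y`. -/
theorem fiberι_apply (f : X ⟶ Y) (y : Y) (z : ↥(f.fiber y)) : f (f.fiberι y z) = y := by
  have h : f.fiberι y z ∈ Set.range (f.fiberι y) := ⟨z, rfl⟩
  rw [f.range_fiberι y] at h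
  exact h

/-- If `U` is open in `X` and `f` is closed, then the points `y` such that the fibre over `y` lies in `U`
form an open set. -/
theorem isOpen_forall_fiber (f : X ⟶ Y) (hf : IsClosedMap f) (U : Set X) (hU : IsOpen U) :
    IsOpen {y : Y | ∀ z : ↥(f.fiber y), f.fiberι y z ∈ U} := by
  have h : {y : Y | ∀ z : ↥(f.fiber y), f.fiberι y z ∈ U} = (f '' Uᶜ)ᶜ := by
    ext y
    constructor
    · rintro h ⟨x, hx, rfl⟩
      have := h (f.asFiber x)
      rw [f.fiberι_asFiber] at this
      exact hx this
    · intro h z
      by_contra hz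
      exact h ⟨f.fiberι y z, hz, fiberι_apply f y z⟩
  rw [h]
  exact (hf _ hU.isClosed_compl).isOpen_compl

end K128.ProperOpen
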