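import Groth.Agent.EGA43.K128.SuppDim
import Groth.Agent.EGA43.K128.ProperOpen
import Groth.Agent.S4983

/-!
# Openness of the set of points over which the restriction to the fibre has no embedded associated point
-/

set_option autoImplicit false
universe u

open CategoryTheory CategoryTheory.Limits AlgebraicGeometry TopologicalSpace
open Groth.Agent Groth.Agent.CycB.RelDim K128.SuppComp

namespace K128.NoEmb

variable {X S : Scheme.{u}} (f : X ⟶ S) (F : X.Modules)

/-- `x` lies on no embedded associated cycle of its fibre, in terms of relative associated points. -/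
def P (x : X) : Prop := ∀ z ∈ MoreMor.relAss f F, z ⤳ x → f z = f x →
  ∀ z' ∈ MoreMor.relAss f F, z' ⤳ z → f z' = f x → z' = z

theorem P_iff (x : X) : P f F x ↔
    ∀ z ∈ AssSch.Ass ((Scheme.Modules.pullback (f.fiberι (f x))).obj F), f.asFiber x ∈ closure {z} →
      ∀ z' ∈ AssSch.Ass ((Scheme.Modules.pullback (f.fiberι (f x))).obj F), z ∈ closure {z'} → z' = z := by
  constructor
  · intro h z hz hzx z' hz' hzz'
    have h1 := h (f.fiberι _ z) ((FibAssSch.mem_ass_fiber_iff f F _ z).mp hz)
      ((FibDim.asFiber_mem_closure_iff f x z).mp hzx) (FibDim.fiberι_base f _ z)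
      (f.fiberι _ z') ((FibAssSch.mem_ass_fiber_iff f F _ z').mp hz')
      ((FibDim.specializes_iff f _ z' z).mp (specializes_iff_mem_closure.mpr hzz')) (FibDim.fiberι_base f _ z')
    exact (f.fiberι (f x)).isEmbedding.injective h1
  · intro h z hz hzx hfz z' hz' hzz' hfz'
    obtain ⟨z, rfl⟩ := FibDim.exists_fiberι_eq f _ z hfz
    obtain ⟨z', rfl⟩ := FibDim.exists_fiberι_eq f _ z' hfz'
    rw [h z ((FibAssSch.mem_ass_fiber_iff f F _ z).mpr hz) ((FibDim.asFiber_mem_closure_iff f x z).mpr hzx)
      z' ((FibAssSch.mem_ass_fiber_iff f F _ z').mpr hz')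
      (specializes_iff_mem_closure.mp ((FibDim.specializes_iff f _ z' z).mpr hzz'))]

theorem noEmbedded_iff (s : S) : AssSch.NoEmbedded ((Scheme.Modules.pullback (f.fiberι s)).obj F) ↔
    ∀ z : f.fiber s, P f F (f.fiberι s z) := by
  constructor
  · intro h w z hz hzx hfz z' hz' hzz' hfz'
    rw [FibDim.fiberι_base f s w] at hfz hfz'
    obtain ⟨z, rfl⟩ := FibDim.exists_fiberι_eq f _ z hfz
    obtain ⟨z', rfl⟩ := FibDim.exists_fiberι_eq f _ z' hfz'
    rw [h z ((FibAssSch.mem_ass_fiber_iff f F _ z).mpr hz)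
      z' ((FibAssSch.mem_ass_fiber_iff f F _ z').mpr hz') ((FibDim.specializes_iff f _ z' z).mpr hzz')]
  · intro h z hz z' hz' hzz'
    have h1 := h z (f.fiberι s z) ((FibAssSch.mem_ass_fiber_iff f F _ z).mp hz) (specializes_refl _) rfl
      (f.fiberι s z') ((FibAssSch.mem_ass_fiber_iff f F _ z').mp hz')
      ((FibDim.specializes_iff f _ z' z).mp hzz')
      ((FibDim.fiberι_base f _ z').trans (FibDim.fiberι_base f _ z).symm)
    exact ((f.fiberι s).isEmbedding.injective h1).symm

theorem isOpen_noEmbedded (hcl : IsClosedMap f) [LocallyOfFinitePresentation f]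
    (hF : CohB1.IsFP F) (hflat : FlatMod.IsFlatOver f F) :
    IsOpen {s : S | AssSch.NoEmbedded ((Scheme.Modules.pullback (f.fiberι s)).obj F)} := by
  have h1 : IsOpen {x : X | P f F x} := by
    have h2 := S4983.result f F hF hflat
    convert h2 using 1
    ext x
    exact P_iff f F x
  have h3 := K128.ProperOpen.isOpen_forall_fiber f hcl _ h1
  convert h3 using 1
  ext s
  exact noEmbedded_iff f F s

end K128.NoEmb
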