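import Groth.Agent.EGA43.K128.SuppComp
import Groth.Agent.S10831
import Groth.Agent.S4964
import Groth.Agent.S4965

/-!
# Dimension of the support of the restriction of a flat module to the fibres of a proper morphism
-/

set_option autoImplicit false
universe u

open CategoryTheory CategoryTheory.Limits AlgebraicGeometry TopologicalSpace
open Groth.Agent Groth.Agent.CycB.RelDim K128.SuppComp

namespace K128.SuppDim

variable {X S : Scheme.{u}} (f : X ⟶ S) (F : X.Modules) [LocallyOfFiniteType f]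

/-- Every irreducible component of `Supp F_s` is the closure of an associated point of `F_s`. -/
theorem exists_ass (hF : Coh.IsCoh F) (s : S) (Z : Set ↥(suppF f F s))
    (hZ : Z ∈ irreducibleComponents ↥(suppF f F s)) :
    ∃ z ∈ AssSch.Ass ((Scheme.Modules.pullback (f.fiberι s)).obj F),
      (∀ z' ∈ suppF f F s, z' ⤳ z → z' = z) ∧ Z = Subtype.val ⁻¹' closure {z} ∧
      topologicalKrullDim ↥Z = topologicalKrullDim ↥(closure {z}) := by
  have hcl := isClosed_suppF f F hF s
  obtain ⟨z, hz, hmax, rfl⟩ := (mem_irreducibleComponents_iff hcl Z).mp hZ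
  exact ⟨z, mem_ass_of_isMax f F hF s z hz hmax, hmax, rfl, dim_preimage_closure hcl hz⟩

/-- If all associated points have dimension at most `n`, so has every component. -/
theorem dim_eq (hF : Coh.IsCoh F) (s : S) (n : ℕ)
    (h1 : ∀ z ∈ AssSch.Ass ((Scheme.Modules.pullback (f.fiberι s)).obj F),
      ∃ m ∈ Finset.range (n + 1), topologicalKrullDim ↥(closure ({z} : Set ↥(f.fiber s))) = (m : WithBot ℕ∞))
    (h2 : ∃ Z ∈ irreducibleComponents ↥(suppF f F s), topologicalKrullDim ↥Z = (n : WithBot ℕ∞)) :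
    topologicalKrullDim ↥(suppF f F s) = n := by
  rw [S10831.result]
  apply le_antisymm
  · refine iSup₂_le fun Z hZ => ?_
    obtain ⟨z, hz, -, -, hd⟩ := exists_ass f F hF s Z hZ
    obtain ⟨m, hm, hm'⟩ := h1 z hz
    rw [hd, hm']
    have h3 : m ≤ n := Nat.lt_succ_iff.mp (Finset.mem_range.mp hm)
    exact_mod_cast h3
  · obtain ⟨Z, hZ, hd⟩ := h2
    rw [← hd]
    exact le_iSup₂ (f := fun (Z : Set ↥(suppF f F s)) (_ : Z ∈ irreducibleComponents ↥(suppF f F s)) =>
      topologicalKrullDim ↥Z) Z hZ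

theorem dim_eq_bot (hF : Coh.IsCoh F) (s : S)
    (h1 : ∀ z ∈ AssSch.Ass ((Scheme.Modules.pullback (f.fiberι s)).obj F),
      ∃ m ∈ (∅ : Finset ℕ), topologicalKrullDim ↥(closure ({z} : Set ↥(f.fiber s))) = (m : WithBot ℕ∞)) :
    topologicalKrullDim ↥(suppF f F s) = ⊥ := by
  rw [S10831.result, eq_bot_iff]
  refine iSup₂_le fun Z hZ => ?_
  obtain ⟨z, hz, -, -, hd⟩ := exists_ass f F hF s Z hZ
  obtain ⟨m, hm, -⟩ := h1 z hz
  simp at hm

/-- For `f` quasi-compact the support of `F_s` has finitely many irreducible components. -/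
theorem finite_components [QuasiCompact f] (s : S) :
    (irreducibleComponents ↥(suppF f F s)).Finite := by
  have := isLocallyNoetherian_fiber f s
  have : IsNoetherian (f.fiber s) := {}
  exact NoetherianSpace.finite_irreducibleComponents

/-- The dimension of a component is a natural number. -/
theorem exists_dim_eq (hF : Coh.IsCoh F) (s : S) (Z : Set ↥(suppF f F s))
    (hZ : Z ∈ irreducibleComponents ↥(suppF f F s)) :
    ∃ n : ℕ, topologicalKrullDim ↥Z = (n : WithBot ℕ∞) := by
  obtain ⟨z, -, -, -, hd⟩ := exists_ass f F hF s Z hZ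
  obtain ⟨m, -, hm⟩ := exists_dim_closure_fiber f s z
  exact ⟨m, hd.trans hm⟩

/-- Every associated point has dimension at most the dimension of some component. -/
theorem exists_component_of_ass (hF : Coh.IsCoh F) (s : S) (z : f.fiber s)
    (hz : z ∈ AssSch.Ass ((Scheme.Modules.pullback (f.fiberι s)).obj F)) :
    ∃ Z ∈ irreducibleComponents ↥(suppF f F s),
      topologicalKrullDim ↥(closure ({z} : Set ↥(f.fiber s))) ≤ topologicalKrullDim ↥Z := by
  have hcl := isClosed_suppF f F hF s
  obtain ⟨w, hw, hwz, hmax⟩ := exists_isMax f F hF s z (mem_supp_of_mem_ass f F s z hz)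
  refine ⟨_, (mem_irreducibleComponents_iff hcl _).mpr ⟨w, hw, hmax, rfl⟩, ?_⟩
  rw [dim_preimage_closure hcl hw]
  have h1 : closure ({z} : Set ↥(f.fiber s)) ⊆ closure {w} :=
    closure_minimal (Set.singleton_subset_iff.mpr (specializes_iff_mem_closure.mp hwz)) isClosed_closure
  exact (Topology.IsEmbedding.inclusion h1).isInducing.topologicalKrullDim_le

theorem isLocallyConstant {X Y : Scheme.{u}} (f : X ⟶ Y) [IsProper f]
    [LocallyOfFinitePresentation f] (F : X.Modules) (hF : CohB1.IsFP F) (hflat : FlatMod.IsFlatOver f F) :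
    IsLocallyConstant (fun y : Y => topologicalKrullDim ↥(suppF f F y)) := by
  have hcoh : Coh.IsCoh F := Models2.FPCoh.isCoh_of_isFP hF
  rw [IsLocallyConstant.iff_exists_open]
  intro y
  rcases (irreducibleComponents ↥(suppF f F y)).eq_empty_or_nonempty with he | hne
  · have h1 : ∀ z ∈ AssSch.Ass ((Scheme.Modules.pullback (f.fiberι y)).obj F), ∃ m ∈ (∅ : Finset ℕ),
      topologicalKrullDim ↥(closure ({z} : Set ↥(f.fiber y))) = (m : WithBot ℕ∞) := by
      intro z hz
      obtain ⟨Z, hZ, -⟩ := exists_component_of_ass f F hcoh y z hz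
      rw [he] at hZ
      exact hZ.elim
    refine ⟨_, S4964.result f F hF hflat ∅, h1, ?_⟩
    intro y' hy'
    rw [dim_eq_bot f F hcoh y' hy', dim_eq_bot f F hcoh y h1]
  · have hfin := finite_components f F y
    obtain ⟨Z, hZ, hmax⟩ := Set.Finite.exists_maximalFor
      (fun Z : Set ↥(suppF f F y) => topologicalKrullDim ↥Z) _ hfin hne
    have hle : ∀ W ∈ irreducibleComponents ↥(suppF f F y),
        topologicalKrullDim ↥W ≤ topologicalKrullDim ↥Z := fun W hW =>
      (le_total (topologicalKrullDim ↥Z) (topologicalKrullDim ↥W)).elim (fun h => hmax hW h) id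
    obtain ⟨n, hn⟩ := exists_dim_eq f F hcoh y Z hZ
    have h1 : ∀ z ∈ AssSch.Ass ((Scheme.Modules.pullback (f.fiberι y)).obj F), ∃ m ∈ Finset.range (n + 1),
        topologicalKrullDim ↥(closure ({z} : Set ↥(f.fiber y))) = (m : WithBot ℕ∞) := by
      intro z hz
      obtain ⟨W, hW, hzW⟩ := exists_component_of_ass f F hcoh y z hz
      obtain ⟨m, -, hm⟩ := exists_dim_closure_fiber f y z
      refine ⟨m, ?_, hm⟩
      have h3 := hzW.trans (hle W hW)
      rw [hm, hn] at h3
      rw [Finset.mem_range, Nat.lt_succ_iff]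
      exact_mod_cast h3
    refine ⟨_, (S4964.result f F hF hflat (Finset.range (n + 1))).inter (isOpen_dim_mem f F hF hflat n),
      ⟨h1, ⟨Z, hZ, hn⟩⟩, ?_⟩
    rintro y' ⟨hy1, hy2⟩
    rw [dim_eq f F hcoh y' n hy1 hy2, dim_eq f F hcoh y n h1 ⟨Z, hZ, hn⟩]

end K128.SuppDim
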